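import Cfsg.Agent.Classical.Semisimple.Classify
import Cfsg.Agent.Classical.Semisimple.PrimeOrder
import Cfsg.Agent.Zsigmondy.Main

/-!
An element of a primitive prime order acts irreducibly; its centraliser is a Singer group.
-/

set_option autoImplicit false

namespace CfsgLib.Classical.Semisimple

open Module Polynomial

variable {F : Type*} [Field F] [Fintype F] {V : Type*} [AddCommGroup V] [Module F V]
  [FiniteDimensional F V] {r : ℕ} [hr : Fact r.Prime]

/-- A map of order `r` with `ord_r q = dim V` is killed by an irreducible polynomial of degree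
`dim V`. -/
theorem exists_irreducible_aeval_eq_zero_of_orderOf_eq (hrF : (r : F) ≠ 0) {f : Module.End F V}
    (hi : orderOf (Fintype.card F : ZMod r) = finrank F V) (h : f ^ r = 1) (h1 : f ≠ 1) :
    ∃ P : F[X], Irreducible P ∧ P.Monic ∧ P.natDegree = finrank F V ∧ aeval f P = 0 := by
  have : Nontrivial V := by
    by_contra hV
    rw [not_nontrivial_iff_subsingleton] at hV
    exact h1 (Subsingleton.elim _ _)
  obtain ⟨P, hP, hmon, v, hv, hv1⟩ := exists_monic_irreducible_apply f
  obtain ⟨W, hW, hvW, hWd, -, hker⟩ := exists_invariant_of_aeval_apply_eq_zero hP hv hv1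
  have hss := isSemisimple_of_pow_eq_one hrF h
  have hpos : 0 < finrank F V := Module.finrank_pos
  have hR : LinearMap.range (f - (1 : F) • 1) = ⊤ := by
    obtain ⟨c, hc⟩ := orderOf_dvd_finrank_range hrF h
    rw [hi] at hc
    rcases Nat.eq_zero_or_pos c with rfl | hcpos
    · rw [mul_zero] at hc
      exact absurd (sub_eq_zero.mp (show f - 1 = 0 by
        have h2 := LinearMap.range_eq_bot.mp (Submodule.finrank_eq_zero.mp hc)
        rwa [one_smul] at h2)) h1
    · refine Submodule.eq_top_of_finrank_eq (le_antisymm (Submodule.finrank_le _) ?_)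
      rw [hc]; exact Nat.le_mul_of_pos_right _ hcpos
  have hdvd := ((pieces_of_pow_eq_one hrF h).mono
    (show W ≤ LinearMap.range (f - (1 : F) • 1) by rw [hR]; exact le_top)).dvd_finrank hss
      (by rw [hi]; exact hpos) hW
  rw [hi, hWd] at hdvd
  have hWtop : W = ⊤ := Submodule.eq_top_of_finrank_eq
    (le_antisymm (Submodule.finrank_le _) (by rw [hWd]; exact Nat.le_of_dvd hP.natDegree_pos hdvd))
  refine ⟨P, hP, hmon, ?_, LinearMap.ext fun x => ?_⟩
  · rw [← hWd, hWtop, finrank_top]
  · exact hker (hWtop ▸ Submodule.mem_top)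

/-- In `K`, an element of primitive prime order can be moved to a multiplication; its centraliser
then consists of multiplications. -/
theorem exists_conj_lmul {K : Type*} [Field K] [Fintype K] [Algebra F K] (hrF : (r : F) ≠ 0)
    (hi : orderOf (Fintype.card F : ZMod r) = finrank F K) {f : Module.End F K} (h : f ^ r = 1)
    (h1 : f ≠ 1) :
    ∃ e : K ≃ₗ[F] K, ∀ u : Module.End F K, u * f = f * u →
      ∃ a : K, ∀ x, e (u x) = a * e x := by
  obtain ⟨P, hP, -, hd, hP0⟩ := exists_irreducible_aeval_eq_zero_of_orderOf_eq hrF hi h h1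
  obtain ⟨s, hs, e0, he0⟩ := exists_equiv_root hP hP0
  have := Fact.mk hP
  obtain rfl : s = 1 :=
    Nat.eq_of_mul_eq_mul_right hP.natDegree_pos (hs.symm.trans (by rw [one_mul, hd]))
  have : FiniteDimensional F (AdjoinRoot P) := (AdjoinRoot.powerBasis hP.ne_zero).finite
  have : Finite (AdjoinRoot P) := Module.finite_of_finite F
  have hdL : finrank F (AdjoinRoot P) = finrank F K := by
    rw [(AdjoinRoot.powerBasis hP.ne_zero).finrank, AdjoinRoot.powerBasis_dim, hd]
  obtain ⟨σ⟩ := FiniteField.nonempty_algHom_of_finrank_dvd (F := F) (K := AdjoinRoot P) (L := K)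
    (by rw [hdL])
  let ψ : AdjoinRoot P ≃ₐ[F] K := AlgEquiv.ofBijective σ
    ((Function.Injective.bijective_of_nat_card_le σ.toRingHom.injective) (by
      rw [Module.natCard_eq_pow_finrank (K := F) (V := AdjoinRoot P),
        Module.natCard_eq_pow_finrank (K := F) (V := K), hdL]))
  let e : K ≃ₗ[F] K := e0.trans ((LinearEquiv.funUnique (Fin 1) F (AdjoinRoot P)).trans
    ψ.toLinearEquiv)
  have hef : ∀ v, e (f v) = ψ (AdjoinRoot.root P) * e v := fun v => by
    simp [e, he0]
  refine ⟨e, fun u hu => ?_⟩
  have hT : ∀ (Q : F[X]) (x : K),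
      e (u (e.symm (ψ (AdjoinRoot.mk P Q) * x))) = ψ (AdjoinRoot.mk P Q) * e (u (e.symm x)) := by
    intro Q
    induction Q using Polynomial.induction_on with
    | C c =>
      intro x
      rw [AdjoinRoot.mk_C, ← AdjoinRoot.algebraMap_eq, AlgEquiv.commutes, ← Algebra.smul_def,
        ← Algebra.smul_def, map_smul, map_smul, map_smul]
    | add A B hA hB =>
      intro x
      simp only [map_add, add_mul, hA, hB]
    | monomial k c ih =>
      intro x
      rw [pow_succ, ← mul_assoc, map_mul (AdjoinRoot.mk P) (C c * X ^ k), map_mul ψ,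
        AdjoinRoot.mk_X, mul_assoc, ih, mul_assoc]
      congr 1
      have h2 : ψ (AdjoinRoot.root P) * x = e (f (e.symm x)) := by
        rw [hef, LinearEquiv.apply_symm_apply]
      rw [h2, LinearEquiv.symm_apply_apply, ← Module.End.mul_apply, hu, Module.End.mul_apply, hef]
  refine ⟨e (u (e.symm 1)), fun x => ?_⟩
  obtain ⟨Q, hQ⟩ := AdjoinRoot.mk_surjective (g := P) (ψ.symm (e x))
  have := hT Q 1
  rw [hQ, ψ.apply_symm_apply, mul_one, LinearEquiv.symm_apply_apply] at this
  rw [this, mul_comm]

end CfsgLib.Classical.Semisimple
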