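import Cfsg.Agent.Classical.Semisimple.Primary

/-!
Semisimple linear maps are determined up to equivalence by their characteristic polynomial.
-/

set_option autoImplicit false

namespace CfsgLib.Classical.Semisimple

open Module Polynomial

universe u v

variable {F : Type u} [Field F] {V : Type v} [AddCommGroup V] [Module F V]
  [FiniteDimensional F V]

/-- The restriction of a map to an invariant subspace. -/
noncomputable def res (f : Module.End F V) {W : Submodule F V} (hW : W.map f ≤ W) :
    Module.End F W :=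
  f.restrict fun _ hx => mem_of_map_le hW hx

omit [FiniteDimensional F V] in
theorem coe_res (f : Module.End F V) {W : Submodule F V} (hW : W.map f ≤ W) (x : W) :
    ((res f hW x : W) : V) = f x := rfl

omit [FiniteDimensional F V] in
theorem coe_aeval_res (f : Module.End F V) {W : Submodule F V} (hW : W.map f ≤ W) (P : F[X])
    (x : W) : ((aeval (res f hW) P x : W) : V) = aeval f P x := by
  induction P using Polynomial.induction_on generalizing x with
  | C a => simp
  | add p q hp hq => simp [hp, hq]
  | monomial k a h =>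
    rw [pow_succ, ← mul_assoc, map_mul (aeval (res f hW)) (C a * X ^ k),
      map_mul (aeval f) (C a * X ^ k), Module.End.mul_apply, Module.End.mul_apply, h, aeval_X,
      aeval_X, coe_res]

theorem charpoly_eq_of_irreducible_aeval {f : Module.End F V} {P : F[X]} (hP : Irreducible P)
    (hmon : P.Monic) (h : aeval f P = 0) (hd : finrank F V = P.natDegree) :
    f.charpoly = P := by
  have : Nontrivial V := Module.nontrivial_of_finrank_pos (R := F) (hd ▸ hP.natDegree_pos)
  have hmin : minpoly F f = P := (minpoly.eq_of_irreducible_of_monic hP h hmon).symm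
  have h1 := LinearMap.minpoly_dvd_charpoly f
  rw [hmin] at h1
  exact (Polynomial.eq_of_monic_of_dvd_of_natDegree_le hmon f.charpoly_monic h1
    (by rw [LinearMap.charpoly_natDegree, hd]))

theorem charpoly_eq_mul {f : Module.End F V} {W C' : Submodule F V} (h : IsCompl W C')
    (hW : W.map f ≤ W) (hC : C'.map f ≤ C') :
    f.charpoly = (res f hW).charpoly * (res f hC).charpoly := by
  have he : (W.prodEquivOfIsCompl C' h).conj ((res f hW).prodMap (res f hC)) = f := by
    refine LinearMap.ext fun x => ?_
    obtain ⟨⟨a, b⟩, rfl⟩ := (W.prodEquivOfIsCompl C' h).surjective x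
    simp [LinearEquiv.conj_apply, coe_res]
  calc f.charpoly = ((W.prodEquivOfIsCompl C' h).conj ((res f hW).prodMap (res f hC))).charpoly := by
        rw [he]
    _ = _ := by rw [LinearEquiv.charpoly_conj, LinearMap.charpoly_prodMap]

omit [FiniteDimensional F V] in
theorem isSemisimple_res {f : Module.End F V} (hs : f.IsSemisimple) {W : Submodule F V}
    (hW : W.map f ≤ W) : (res f hW).IsSemisimple :=
  hs.restrict _

/-- Split off one piece for a vector killed by a monic irreducible polynomial. -/
theorem exists_split {f : Module.End F V} (hs : f.IsSemisimple) {P : F[X]} (hP : Irreducible P)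
    (hmon : P.Monic) {v : V} (hv : v ≠ 0) (h : aeval f P v = 0) :
    ∃ (W C' : Submodule F V) (hW : W.map f ≤ W) (hC : C'.map f ≤ C'),
      IsCompl W C' ∧ aeval (res f hW) P = 0 ∧ finrank F W = P.natDegree ∧
      f.charpoly = P * (res f hC).charpoly ∧ finrank F C' < finrank F V := by
  obtain ⟨W, hW, -, hd, -, hker⟩ := exists_invariant_of_aeval_apply_eq_zero hP hv h
  obtain ⟨C', hC, hWC⟩ := exists_invariant_compl hs hW
  have h0 : aeval (res f hW) P = 0 := by
    refine LinearMap.ext fun x => Subtype.ext ?_
    rw [coe_aeval_res, LinearMap.zero_apply, Submodule.coe_zero]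
    exact hker x.2
  refine ⟨W, C', hW, hC, hWC, h0, hd, ?_, ?_⟩
  · rw [charpoly_eq_mul hWC hW hC, charpoly_eq_of_irreducible_aeval hP hmon h0 hd]
  · rw [← Submodule.finrank_add_eq_of_isCompl hWC, hd]
    have := hP.natDegree_pos
    omega

omit [FiniteDimensional F V] in
/-- A monic irreducible polynomial with a non-zero vector in its kernel. -/
theorem exists_monic_irreducible_apply [Nontrivial V] (f : Module.End F V) [FiniteDimensional F V] :
    ∃ P : F[X], Irreducible P ∧ P.Monic ∧ ∃ v : V, v ≠ 0 ∧ aeval f P v = 0 := by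
  obtain ⟨v, hv⟩ := exists_ne (0 : V)
  obtain ⟨P, hP, -, w, -, hw, hPw⟩ := exists_irreducible_factor_apply_eq_zero (f := f) (W := ⊤)
    le_top (f.charpoly_monic.ne_zero) Submodule.mem_top hv (by rw [f.aeval_self_charpoly]; rfl)
  exact ⟨P * C P.leadingCoeff⁻¹, irreducible_mul_leadingCoeff_inv.mpr hP,
    monic_mul_leadingCoeff_inv hP.ne_zero, w, hw, by
      rw [mul_comm, map_mul, Module.End.mul_apply, hPw, map_zero]⟩

/-- A monic irreducible factor of the characteristic polynomial of a semisimple map kills a
non-zero vector. -/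
theorem exists_apply_eq_zero_of_dvd_charpoly {f : Module.End F V} (hs : f.IsSemisimple)
    {P : F[X]} (hP : Irreducible P) (hmon : P.Monic) (hd : P ∣ f.charpoly) :
    ∃ v : V, v ≠ 0 ∧ aeval f P v = 0 := by
  induction hn : finrank F V using Nat.strong_induction_on generalizing V with
  | _ n ih =>
    rcases subsingleton_or_nontrivial V with hV | hV
    · exfalso
      have h0 := f.charpoly_natDegree
      rw [finrank_zero_of_subsingleton] at h0
      have := natDegree_le_of_dvd hd f.charpoly_monic.ne_zero
      have := hP.natDegree_pos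
      omega
    obtain ⟨P1, hP1, hmon1, v, hv, hv1⟩ := exists_monic_irreducible_apply f
    obtain ⟨W, C', hW, hC, -, -, -, hchar, hlt⟩ := exists_split hs hP1 hmon1 hv hv1
    rw [hchar] at hd
    rcases hP.prime.dvd_or_dvd hd with h | h
    · exact ⟨v, hv, by rw [eq_of_monic_of_associated hmon hmon1 (hP.associated_of_dvd hP1 h)]; exact hv1⟩
    · obtain ⟨w, hw, hw0⟩ := ih _ (hn ▸ hlt) (isSemisimple_res hs hC) h rfl
      exact ⟨w, fun e => hw (Subtype.ext e), by rw [← coe_aeval_res f hC, hw0]; rfl⟩

/-- Semisimple maps with the same characteristic polynomial are equivalent. -/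
theorem exists_equiv_of_charpoly_eq {V' : Type v} [AddCommGroup V'] [Module F V']
    [FiniteDimensional F V'] {f : Module.End F V} {g : Module.End F V'} (hf : f.IsSemisimple)
    (hg : g.IsSemisimple) (hc : f.charpoly = g.charpoly) :
    ∃ e : V ≃ₗ[F] V', ∀ v, e (f v) = g (e v) := by
  induction hn : finrank F V using Nat.strong_induction_on generalizing V V' with
  | _ n ih =>
    have hd' : finrank F V = finrank F V' := by
      rw [← f.charpoly_natDegree, hc, g.charpoly_natDegree]
    rcases subsingleton_or_nontrivial V with hV | hV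
    · have : Subsingleton V' := by
        rw [finrank_zero_of_subsingleton] at hd'
        exact finrank_zero_iff.mp hd'.symm
      exact ⟨LinearEquiv.ofFinrankEq V V' hd', fun v => Subsingleton.elim _ _⟩
    obtain ⟨P, hP, hmon, v, hv, hv1⟩ := exists_monic_irreducible_apply f
    obtain ⟨W, C1, hW, hC, hWC, h0, hWd, hchar, hlt⟩ := exists_split hf hP hmon hv hv1
    obtain ⟨w, hw, hw1⟩ := exists_apply_eq_zero_of_dvd_charpoly hg hP hmon
      (by rw [← hc, hchar]; exact dvd_mul_right _ _)
    obtain ⟨W', C2, hW', hC', hWC', h0', hWd', hchar', -⟩ := exists_split hg hP hmon hw hw1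
    obtain ⟨e1, he1⟩ := exists_equiv_of_irreducible hP h0 h0' (hWd.trans hWd'.symm)
    obtain ⟨e2, he2⟩ := ih _ (hn ▸ hlt) (isSemisimple_res hf hC) (isSemisimple_res hg hC')
      (mul_left_cancel₀ hP.ne_zero (by rw [← hchar, hc, hchar'])) rfl
    refine ⟨(W.prodEquivOfIsCompl C1 hWC).symm.trans
      ((e1.prodCongr e2).trans (W'.prodEquivOfIsCompl C2 hWC')), fun x => ?_⟩
    obtain ⟨⟨a, b⟩, rfl⟩ := (W.prodEquivOfIsCompl C1 hWC).surjective x
    have hfx : f (W.prodEquivOfIsCompl C1 hWC (a, b)) =
        W.prodEquivOfIsCompl C1 hWC (res f hW a, res f hC b) := by simp [coe_res]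
    rw [hfx]
    simp only [LinearEquiv.trans_apply, LinearEquiv.symm_apply_apply, LinearEquiv.prodCongr_apply,
      he1, he2]
    simp [coe_res]

/-- Over a finite field the centralizer of a semisimple map on a non-zero space has elements of
every non-zero determinant. -/
theorem exists_commute_det_eq [Finite F] [Nontrivial V] {f : Module.End F V} (hs : f.IsSemisimple)
    {d : F} (hd : d ≠ 0) :
    ∃ k : V ≃ₗ[F] V, (∀ v, k (f v) = f (k v)) ∧ LinearMap.det (k : V →ₗ[F] V) = d := by
  obtain ⟨P, hP, hmon, v, hv, hv1⟩ := exists_monic_irreducible_apply f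
  obtain ⟨W, C', hW, hC, hWC, h0, hWd, -, -⟩ := exists_split hs hP hmon hv hv1
  obtain ⟨s, hs', e, he⟩ := exists_equiv_root hP h0
  have := Fact.mk hP
  have hs1 : s = 1 := by
    rw [hWd] at hs'
    exact Nat.eq_of_mul_eq_mul_right hP.natDegree_pos (by rw [one_mul]; exact hs'.symm)
  subst hs1
  have : FiniteDimensional F (AdjoinRoot P) := (AdjoinRoot.powerBasis hP.ne_zero).finite
  have : Finite (AdjoinRoot P) := Module.finite_of_finite F
  obtain ⟨c, hc⟩ := FiniteField.unitsMap_norm_surjective F (AdjoinRoot P) (Units.mk0 d hd)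
  let m : (Fin 1 → AdjoinRoot P) ≃ₗ[AdjoinRoot P] (Fin 1 → AdjoinRoot P) :=
    LinearEquiv.smulOfUnit c
  let kW : W ≃ₗ[F] W := e.trans ((m.restrictScalars F).trans e.symm)
  have hkW : ∀ a : W, kW (res f hW a) = res f hW (kW a) := fun a => e.injective (by
    simp [kW, m, he])
  let k : V ≃ₗ[F] V := (W.prodEquivOfIsCompl C' hWC).symm.trans
    ((kW.prodCongr (LinearEquiv.refl F C')).trans (W.prodEquivOfIsCompl C' hWC))
  refine ⟨k, fun x => ?_, ?_⟩
  · obtain ⟨⟨a, b⟩, rfl⟩ := (W.prodEquivOfIsCompl C' hWC).surjective x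
    have hfx : f (W.prodEquivOfIsCompl C' hWC (a, b)) =
        W.prodEquivOfIsCompl C' hWC (res f hW a, res f hC b) := by simp [coe_res]
    rw [hfx]
    simp only [k, LinearEquiv.trans_apply, LinearEquiv.symm_apply_apply,
      LinearEquiv.prodCongr_apply, LinearEquiv.refl_apply, hkW]
    simp [coe_res]
  · have h1 : (k : V →ₗ[F] V) = (W.prodEquivOfIsCompl C' hWC : (↥W × ↥C') →ₗ[F] V) ∘ₗ
        ((kW : W →ₗ[F] W).prodMap (LinearMap.id : ↥C' →ₗ[F] ↥C')) ∘ₗ
          ((W.prodEquivOfIsCompl C' hWC).symm : V →ₗ[F] (↥W × ↥C')) := LinearMap.ext fun x => by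
        simp [k, Submodule.coe_prodEquivOfIsCompl']
    rw [h1, LinearMap.det_conj, LinearMap.det_prodMap, LinearMap.det_id, mul_one]
    have h2 : (kW : W →ₗ[F] W) = (e.symm : _ →ₗ[F] W) ∘ₗ
        (((c : AdjoinRoot P) • (LinearMap.id :
          (Fin 1 → AdjoinRoot P) →ₗ[AdjoinRoot P] (Fin 1 → AdjoinRoot P))).restrictScalars F) ∘ₗ
            (e.symm.symm : W →ₗ[F] _) := LinearMap.ext fun x => by simp [kW, m]; rfl
    rw [h2, LinearMap.det_conj, LinearMap.det_restrictScalars, LinearMap.det_smul,
      LinearMap.det_id, mul_one, Module.finrank_pi, Fintype.card_fin, pow_one]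
    exact congrArg (fun u : Fˣ => (u : F)) hc

end CfsgLib.Classical.Semisimple
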