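import Cfsg.Agent.Classical.Semisimple.Bridge
import Cfsg.Agent.Classical.Semisimple.Classify

/-!
Conjugacy classes of elements of order prime to the characteristic in the general and special
linear groups over a finite field correspond to characteristic polynomials.
-/

set_option autoImplicit false

namespace CfsgLib.Classical.Semisimple

open Module Polynomial Matrix

variable {F : Type*} [Field F] {ι : Type*} [Fintype ι] [DecidableEq ι]

theorem toLin'_isSemisimple {M : Matrix ι ι F} {N : ℕ} (hN : (N : F) ≠ 0) (h : M ^ N = 1) :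
    Module.End.IsSemisimple (Matrix.toLin' M : Module.End F (ι → F)) :=
  isSemisimple_of_pow_eq_one hN (by rw [toLin'_pow, h, Matrix.toLin'_one]; rfl)

theorem natCast_orderOf_ne_zero {G : Type*} [Group G] (p : ℕ) [Fact p.Prime] [CharP F p] {g : G}
    (hg : (orderOf g).Coprime p) : (orderOf g : F) ≠ 0 := by
  rw [Ne, CharP.cast_eq_zero_iff F p]
  exact fun h => (Fact.out : p.Prime).coprime_iff_not_dvd.mp hg.symm h

theorem gl_isSemisimple (p : ℕ) [Fact p.Prime] [CharP F p] {g : GL ι F}
    (hg : (orderOf g).Coprime p) :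
    Module.End.IsSemisimple (Matrix.toLin' (g : Matrix ι ι F) : Module.End F (ι → F)) :=
  toLin'_isSemisimple (natCast_orderOf_ne_zero p hg)
    (by rw [← Units.val_pow_eq_pow_val, pow_orderOf_eq_one, Units.val_one])

theorem sl_isSemisimple (p : ℕ) [Fact p.Prime] [CharP F p] {g : Matrix.SpecialLinearGroup ι F}
    (hg : (orderOf g).Coprime p) :
    Module.End.IsSemisimple (Matrix.toLin' (g : Matrix ι ι F) : Module.End F (ι → F)) :=
  toLin'_isSemisimple (natCast_orderOf_ne_zero p hg) (by
    rw [← Matrix.SpecialLinearGroup.coe_pow, pow_orderOf_eq_one, Matrix.SpecialLinearGroup.coe_one])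

theorem toMatrix'_mul_eq_of_comm {e : (ι → F) ≃ₗ[F] (ι → F)} {A B : Matrix ι ι F}
    (he : ∀ v, e (Matrix.toLin' A v) = Matrix.toLin' B (e v)) :
    LinearMap.toMatrix' (e : (ι → F) →ₗ[F] (ι → F)) * A =
      B * LinearMap.toMatrix' (e : (ι → F) →ₗ[F] (ι → F)) := by
  apply Matrix.toLin'.injective
  rw [Matrix.toLin'_mul, Matrix.toLin'_mul, Matrix.toLin'_toMatrix']
  exact LinearMap.ext he

theorem gl_isConj_of_charpoly_eq (p : ℕ) [Fact p.Prime] [CharP F p] {g h : GL ι F}
    (hg : (orderOf g).Coprime p) (hh : (orderOf h).Coprime p)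
    (hc : (g : Matrix ι ι F).charpoly = (h : Matrix ι ι F).charpoly) : IsConj g h := by
  obtain ⟨e, he⟩ := exists_equiv_of_charpoly_eq (gl_isSemisimple p hg) (gl_isSemisimple p hh)
    (by rw [Matrix.charpoly_toLin', Matrix.charpoly_toLin', hc])
  refine isConj_iff.mpr ⟨⟨LinearMap.toMatrix' (e : (ι → F) →ₗ[F] (ι → F)),
    LinearMap.toMatrix' (e.symm : (ι → F) →ₗ[F] (ι → F)),
    by rw [← LinearMap.toMatrix'_comp]; simp, by rw [← LinearMap.toMatrix'_comp]; simp⟩, ?_⟩
  rw [mul_inv_eq_iff_eq_mul]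
  exact Units.ext (toMatrix'_mul_eq_of_comm he)

theorem sl_isConj_of_charpoly_eq [Finite F] (p : ℕ) [Fact p.Prime] [CharP F p]
    {g h : Matrix.SpecialLinearGroup ι F}
    (hg : (orderOf g).Coprime p) (hh : (orderOf h).Coprime p)
    (hc : (g : Matrix ι ι F).charpoly = (h : Matrix ι ι F).charpoly) : IsConj g h := by
  rcases isEmpty_or_nonempty ι with hι | hι
  · have : g = h := by ext i; exact isEmptyElim i
    exact this ▸ IsConj.refl g
  obtain ⟨e, he⟩ := exists_equiv_of_charpoly_eq (sl_isSemisimple p hg) (sl_isSemisimple p hh)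
    (by rw [Matrix.charpoly_toLin', Matrix.charpoly_toLin', hc])
  have hd : LinearMap.det (e : (ι → F) →ₗ[F] (ι → F)) ≠ 0 :=
    (LinearEquiv.isUnit_det' e).ne_zero
  obtain ⟨k, hk, hkd⟩ := exists_commute_det_eq (sl_isSemisimple p hh) (inv_ne_zero hd)
  have hdet : (LinearMap.toMatrix' (e.trans k : (ι → F) →ₗ[F] (ι → F))).det = 1 := by
    rw [LinearMap.det_toMatrix']
    show LinearMap.det ((k : (ι → F) →ₗ[F] (ι → F)) ∘ₗ (e : (ι → F) →ₗ[F] (ι → F))) = 1
    rw [LinearMap.det_comp, hkd, inv_mul_cancel₀ hd]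
  obtain ⟨u, hu⟩ : ∃ u : Matrix.SpecialLinearGroup ι F,
      (u : Matrix ι ι F) = LinearMap.toMatrix' (e.trans k : (ι → F) →ₗ[F] (ι → F)) :=
    ⟨⟨_, hdet⟩, rfl⟩
  refine isConj_iff.mpr ⟨u, ?_⟩
  rw [mul_inv_eq_iff_eq_mul]
  refine Subtype.ext ?_
  rw [Matrix.SpecialLinearGroup.coe_mul, Matrix.SpecialLinearGroup.coe_mul, hu]
  exact toMatrix'_mul_eq_of_comm fun v => by
    rw [LinearEquiv.trans_apply, LinearEquiv.trans_apply, he, hk]

/-- A power of an element of finite order that keeps the characteristic polynomial and has order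
prime to `p`. -/
theorem exists_pow_card_pow_coprime [Fintype F] (p : ℕ) [Fact p.Prime] [CharP F p] (g : GL ι F) :
    ∃ N : ℕ, (orderOf (g ^ Fintype.card F ^ N)).Coprime p ∧
      ((g ^ Fintype.card F ^ N : GL ι F) : Matrix ι ι F).charpoly =
        (g : Matrix ι ι F).charpoly := by
  have hp : p.Prime := Fact.out
  have : Finite F := Finite.of_fintype F
  have ho : 0 < orderOf g := orderOf_pos g
  obtain ⟨f, -, hf⟩ := FiniteField.card F p
  refine ⟨orderOf g, ?_, ?_⟩
  · rw [orderOf_pow, hf, ← pow_mul, Nat.coprime_comm, hp.coprime_iff_not_dvd]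
    intro hd
    set a := padicValNat p (orderOf g) with ha
    have h1 : p ^ a ∣ Nat.gcd (orderOf g) (p ^ ((f : ℕ) * orderOf g)) := by
      refine Nat.dvd_gcd pow_padicValNat_dvd (pow_dvd_pow p ?_)
      calc a ≤ orderOf g := by
            have h1 := Nat.le_of_dvd ho (pow_padicValNat_dvd (p := p) (n := orderOf g))
            exact (Nat.lt_pow_self hp.one_lt).le.trans h1
        _ ≤ _ := Nat.le_mul_of_pos_left _ f.pos
    obtain ⟨c, hc⟩ := hd
    have h2 : p ^ (a + 1) ∣ orderOf g := by
      obtain ⟨e, he⟩ := h1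
      refine ⟨e * c, ?_⟩
      have h3 := Nat.eq_mul_of_div_eq_right (Nat.gcd_dvd_left _ _) hc
      rw [h3, he, pow_succ]
      ring
    have h4 := (padicValNat_dvd_iff_le ho.ne').mp h2
    omega
  · rw [Units.val_pow_eq_pow_val]
    induction orderOf g with
    | zero => simp
    | succ N ih => rw [pow_succ, pow_mul, FiniteField.Matrix.charpoly_pow_card, ih]

theorem exists_matrix_charpoly_eq {n : ℕ} {P : F[X]} (hmon : P.Monic) (hdeg : P.natDegree = n) :
    ∃ M : Matrix (Fin n) (Fin n) F, M.charpoly = P := by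
  subst hdeg
  exact ⟨Algebra.leftMulMatrix (AdjoinRoot.powerBasis hmon.ne_zero).basis
    (AdjoinRoot.powerBasis hmon.ne_zero).gen,
    (charpoly_leftMulMatrix (AdjoinRoot.powerBasis hmon.ne_zero)).trans
      (AdjoinRoot.minpoly_powerBasis_gen_of_monic hmon)⟩

theorem det_eq_coeff {n : ℕ} {M : Matrix (Fin n) (Fin n) F} :
    M.det = (-1) ^ n * M.charpoly.coeff 0 := by
  rw [Matrix.det_eq_sign_charpoly_coeff, Fintype.card_fin]

/-- Classes of elements of order prime to `p` in `GL` correspond to monic polynomials with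
non-zero constant term. -/
theorem gl_card_classes [Fintype F] (p : ℕ) [Fact p.Prime] [CharP F p] (n : ℕ) :
    Nat.card {c : ConjClasses (GL (Fin n) F) //
        ∃ g : GL (Fin n) F, ConjClasses.mk g = c ∧ (orderOf g).Coprime p} =
      Nat.card {P : {P : F[X] // P.Monic ∧ P.natDegree = n} // P.1.coeff 0 ≠ 0} := by
  classical
  refine Nat.card_eq_of_bijective (fun c => ⟨⟨((Classical.choose c.2 : GL (Fin n) F) :
      Matrix (Fin n) (Fin n) F).charpoly, Matrix.charpoly_monic _,
        (Matrix.charpoly_natDegree_eq_dim _).trans (Fintype.card_fin n)⟩, fun h => ?_⟩) ⟨?_, ?_⟩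
  · have h1 := det_eq_coeff (M := ((Classical.choose c.2 : GL (Fin n) F) :
      Matrix (Fin n) (Fin n) F))
    rw [show _ = (0 : F) from h, mul_zero] at h1
    exact (Matrix.GeneralLinearGroup.det_ne_zero _) h1
  · intro c d hcd
    have hc := Classical.choose_spec c.2
    have hd := Classical.choose_spec d.2
    refine Subtype.ext ?_
    rw [← hc.1, ← hd.1, ConjClasses.mk_eq_mk_iff_isConj]
    exact gl_isConj_of_charpoly_eq p hc.2 hd.2
      (congrArg Subtype.val (congrArg Subtype.val hcd))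
  · rintro ⟨⟨P, hmon, hdeg⟩, hP0⟩
    obtain ⟨M, hM⟩ := exists_matrix_charpoly_eq hmon hdeg
    have hu : IsUnit M := by
      rw [Matrix.isUnit_iff_isUnit_det, isUnit_iff_ne_zero, det_eq_coeff, hM]
      exact mul_ne_zero (pow_ne_zero _ (neg_ne_zero.mpr one_ne_zero)) hP0
    obtain ⟨N, hN, hchar⟩ := exists_pow_card_pow_coprime p hu.unit
    refine ⟨⟨ConjClasses.mk (hu.unit ^ Fintype.card F ^ N), _, rfl, hN⟩,
      Subtype.ext (Subtype.ext ?_)⟩
    have hex : ∃ g : GL (Fin n) F,
        ConjClasses.mk g = ConjClasses.mk (hu.unit ^ Fintype.card F ^ N) ∧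
          (orderOf g).Coprime p := ⟨_, rfl, hN⟩
    obtain ⟨u, hu'⟩ := isConj_iff.mp (ConjClasses.mk_eq_mk_iff_isConj.mp
      (Classical.choose_spec hex).1)
    show ((Classical.choose hex : GL (Fin n) F) : Matrix (Fin n) (Fin n) F).charpoly = P
    rw [← hM]
    refine Eq.trans ?_ (hchar.trans (congrArg Matrix.charpoly hu.unit_spec))
    refine Eq.trans ?_ (congrArg (fun v : GL (Fin n) F => (v : Matrix (Fin n) (Fin n) F).charpoly)
      hu')
    rw [Units.val_mul, Units.val_mul, Matrix.coe_units_inv, Matrix.charpoly_units_conj]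

/-- Classes of elements of order prime to `p` in `SL` correspond to monic polynomials with
constant term `(-1) ^ n`. -/
theorem sl_card_classes [Fintype F] (p : ℕ) [Fact p.Prime] [CharP F p] (n : ℕ) :
    Nat.card {c : ConjClasses (Matrix.SpecialLinearGroup (Fin n) F) //
        ∃ g : Matrix.SpecialLinearGroup (Fin n) F,
          ConjClasses.mk g = c ∧ (orderOf g).Coprime p} =
      Nat.card {P : {P : F[X] // P.Monic ∧ P.natDegree = n} // P.1.coeff 0 = (-1) ^ n} := by
  classical
  refine Nat.card_eq_of_bijective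
    (fun c => ⟨⟨((Classical.choose c.2 : Matrix.SpecialLinearGroup (Fin n) F) :
      Matrix (Fin n) (Fin n) F).charpoly, Matrix.charpoly_monic _,
        (Matrix.charpoly_natDegree_eq_dim _).trans (Fintype.card_fin n)⟩, ?_⟩) ⟨?_, ?_⟩
  · have h1 := det_eq_coeff (M := ((Classical.choose c.2 : Matrix.SpecialLinearGroup (Fin n) F) :
      Matrix (Fin n) (Fin n) F))
    rw [Matrix.SpecialLinearGroup.det_coe] at h1
    have h2 := congrArg ((-1 : F) ^ n * ·) h1
    simp only [mul_one, ← mul_assoc, ← mul_pow, neg_mul_neg, one_pow, one_mul] at h2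
    exact h2.symm
  · intro c d hcd
    have hc := Classical.choose_spec c.2
    have hd := Classical.choose_spec d.2
    refine Subtype.ext ?_
    rw [← hc.1, ← hd.1, ConjClasses.mk_eq_mk_iff_isConj]
    exact sl_isConj_of_charpoly_eq p hc.2 hd.2
      (congrArg Subtype.val (congrArg Subtype.val hcd))
  · rintro ⟨⟨P, hmon, hdeg⟩, hP0⟩
    obtain ⟨M, hM⟩ := exists_matrix_charpoly_eq hmon hdeg
    have hdet : M.det = 1 := by
      rw [det_eq_coeff, hM, show P.coeff 0 = (-1) ^ n from hP0, ← mul_pow, neg_mul_neg, one_mul,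
        one_pow]
    set u : Matrix.SpecialLinearGroup (Fin n) F := ⟨M, hdet⟩
    obtain ⟨N, hN, hchar⟩ :=
      exists_pow_card_pow_coprime p (Matrix.SpecialLinearGroup.toGL u)
    rw [← map_pow, orderOf_injective _ Matrix.SpecialLinearGroup.toGL_injective] at hN
    rw [← map_pow] at hchar
    refine ⟨⟨ConjClasses.mk (u ^ Fintype.card F ^ N), _, rfl, hN⟩, Subtype.ext (Subtype.ext ?_)⟩
    have hex : ∃ g : Matrix.SpecialLinearGroup (Fin n) F,
        ConjClasses.mk g = ConjClasses.mk (u ^ Fintype.card F ^ N) ∧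
          (orderOf g).Coprime p := ⟨_, rfl, hN⟩
    obtain ⟨w, hw⟩ := isConj_iff.mp (MonoidHom.map_isConj Matrix.SpecialLinearGroup.toGL
      (ConjClasses.mk_eq_mk_iff_isConj.mp (Classical.choose_spec hex).1))
    show ((Classical.choose hex : Matrix.SpecialLinearGroup (Fin n) F) :
      Matrix (Fin n) (Fin n) F).charpoly = P
    rw [← hM]
    refine Eq.trans ?_ hchar
    refine Eq.trans ?_ (congrArg (fun v : GL (Fin n) F => (v : Matrix (Fin n) (Fin n) F).charpoly)
      hw)
    rw [Units.val_mul, Units.val_mul, Matrix.coe_units_inv, Matrix.charpoly_units_conj]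
    rfl

/-- Counting monic polynomials of degree `n` by their constant term. -/
theorem card_monic_coeff_zero [Fintype F] {n : ℕ} (hn : 1 ≤ n) (S : F → Prop) [DecidablePred S] :
    Nat.card {P : {P : F[X] // P.Monic ∧ P.natDegree = n} // S (P.1.coeff 0)} =
      (Finset.univ.filter S).card * Fintype.card F ^ (n - 1) := by
  classical
  obtain ⟨k, rfl⟩ : ∃ k, n = k + 1 := ⟨n - 1, by omega⟩
  let e : {P : F[X] // P.Monic ∧ P.natDegree = k + 1} ≃ (Fin (k + 1) → F) :=
    (Polynomial.monicEquivDegreeLT (k + 1)).trans (Polynomial.degreeLTEquiv F (k + 1)).toEquiv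
  have he : ∀ P, P.1.coeff 0 = e P 0 := by
    intro P
    show _ = P.1.eraseLead.coeff 0
    rw [Polynomial.eraseLead_coeff_of_ne _ (by rw [P.2.2]; omega)]
  let e2 : {P : {P : F[X] // P.Monic ∧ P.natDegree = k + 1} // S (P.1.coeff 0)} ≃
      {v : Fin (k + 1) → F // S (v 0)} :=
    e.subtypeEquiv fun P => by rw [he]
  let e3 : {v : Fin (k + 1) → F // S (v 0)} ≃ {a : F // S a} × (Fin k → F) :=
    { toFun := fun v => (⟨v.1 0, v.2⟩, Fin.tail v.1)
      invFun := fun x => ⟨Fin.cons x.1.1 x.2, by simpa using x.1.2⟩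
      left_inv := fun v => Subtype.ext (Fin.cons_self_tail v.1)
      right_inv := fun x => by simp }
  rw [Nat.card_congr (e2.trans e3), Nat.card_prod, Nat.card_fun, Nat.card_eq_fintype_card,
    Fintype.card_subtype, Nat.card_eq_fintype_card (α := F), Nat.card_fin, Nat.add_sub_cancel]

end CfsgLib.Classical.Semisimple
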