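import Cfsg.Agent.Classical.Semisimple.ClassCount
import Cfsg.Agent.Classical.Semisimple.PrimeOrder

/-!
The number of conjugacy classes of elements of a prime order `r` (prime to the characteristic) in
the general linear group.
-/

set_option autoImplicit false

namespace CfsgLib.Classical.Semisimple

open Module Polynomial Matrix UniqueFactorizationMonoid

variable {F : Type*} [Field F]

theorem aeval_eq_zero_of_forall_dvd {V : Type*} [AddCommGroup V] [Module F V]
    [FiniteDimensional F V] {f : Module.End F V} (hs : f.IsSemisimple) {Q : F[X]}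
    (h : ∀ P : F[X], Irreducible P → P.Monic → P ∣ f.charpoly → P ∣ Q) : aeval f Q = 0 := by
  induction hn : finrank F V using Nat.strong_induction_on generalizing V with
  | _ n ih =>
    rcases subsingleton_or_nontrivial V with hV | hV
    · exact LinearMap.ext fun v => Subsingleton.elim _ _
    obtain ⟨P, hP, hmon, v, hv, hv1⟩ := exists_monic_irreducible_apply f
    obtain ⟨W, C', hW, hC, hWC, h0, -, hchar, hlt⟩ := exists_split hs hP hmon hv hv1
    have h1 := ih _ (hn ▸ hlt) (isSemisimple_res hs hC)
      (fun R hR hRm hd => h R hR hRm (by rw [hchar]; exact hd.trans (dvd_mul_left _ _))) rfl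
    obtain ⟨T, hT⟩ := h P hP hmon (by rw [hchar]; exact dvd_mul_right _ _)
    refine LinearMap.ext fun x => ?_
    obtain ⟨⟨a, b⟩, rfl⟩ := (W.prodEquivOfIsCompl C' hWC).surjective x
    rw [Submodule.coe_prodEquivOfIsCompl', map_add, ← coe_aeval_res f hW Q a,
      ← coe_aeval_res f hC Q b, h1, hT, mul_comm, map_mul, h0, mul_zero]
    simp

variable [Fintype F] {r : ℕ} [hr : Fact r.Prime]

open _root_.Classical in
/-- The monic irreducible factors of the `r`-th cyclotomic polynomial. -/
noncomputable def orbitPolys (F : Type*) [Field F] (r : ℕ) : Finset F[X] :=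
  (normalizedFactors (cyclotomic r F)).toFinset

omit [Fintype F] hr in
theorem mem_orbitPolys (P : F[X]) :
    P ∈ orbitPolys F r ↔ Irreducible P ∧ P.Monic ∧ P ∣ cyclotomic r F := by
  classical
  have h0 := cyclotomic_ne_zero r F
  rw [orbitPolys, Multiset.mem_toFinset]
  constructor
  · intro h
    have hirr := irreducible_of_normalized_factor P h
    refine ⟨hirr, ?_, dvd_of_mem_normalizedFactors h⟩
    rw [← normalize_normalized_factor P h]
    exact Polynomial.monic_normalize hirr.ne_zero
  · rintro ⟨h1, h2, h3⟩
    obtain ⟨Q, hQ, hPQ⟩ := exists_mem_normalizedFactors_of_dvd h0 h1 h3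
    have hQm : Q.Monic := by
      rw [← normalize_normalized_factor Q hQ]
      exact Polynomial.monic_normalize (irreducible_of_normalized_factor Q hQ).ne_zero
    rwa [eq_of_monic_of_associated h2 hQm hPQ]

theorem card_orbitPolys_mul (hrF : (r : F) ≠ 0) :
    (orbitPolys F r).card * orderOf (Fintype.card F : ZMod r) = r - 1 := by
  classical
  have h0 := cyclotomic_ne_zero r F
  have := NeZero.mk hrF
  have hnd : (normalizedFactors (cyclotomic r F)).Nodup :=
    (squarefree_iff_nodup_normalizedFactors h0).mp (squarefree_cyclotomic r F)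
  have hcard : (orbitPolys F r).card = Multiset.card (normalizedFactors (cyclotomic r F)) := by
    rw [orbitPolys, Multiset.card_toFinset, Multiset.dedup_eq_self.mpr (by convert hnd)]
  have h1 := congrArg natDegree (prod_normalizedFactors_eq h0)
  rw [natDegree_multiset_prod _ (fun h => not_irreducible_zero
      (irreducible_of_normalized_factor 0 h)), (cyclotomic.monic r F).normalize_eq_self,
    natDegree_cyclotomic, Nat.totient_prime hr.out] at h1
  rw [Multiset.map_congr rfl (fun P hP => natDegree_of_dvd_cyclotomic hrF
    (irreducible_of_normalized_factor P hP) (dvd_of_mem_normalizedFactors hP)),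
    Multiset.map_const', Multiset.sum_replicate, smul_eq_mul, ← hcard] at h1
  exact h1

/-- The multiset of irreducible factors attached to a choice of orbit multiplicities. -/
noncomputable def factorsOf (F : Type*) [Field F] (r i n : ℕ)
    (m : Multiset (Option (orbitPolys F r))) : Multiset F[X] :=
  m.bind (fun o => o.elim (Multiset.replicate i (X - 1 : F[X])) (fun d => {(d : F[X])})) +
    Multiset.replicate (n % i) (X - 1)

omit [Fintype F] in
theorem factorsOf_spec {i n : ℕ}
    {m : Multiset (Option (orbitPolys F r))} {P : F[X]} (hP : P ∈ factorsOf F r i n m) :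
    Irreducible P ∧ P.Monic ∧ P ∣ X ^ r - 1 := by
  have hX : Irreducible (X - 1 : F[X]) ∧ (X - 1 : F[X]).Monic ∧ (X - 1 : F[X]) ∣ X ^ r - 1 := by
    refine ⟨?_, ?_, ?_⟩
    · rw [← C_1]; exact irreducible_X_sub_C 1
    · rw [← C_1]; exact monic_X_sub_C 1
    · rw [← cyclotomic_prime_mul_X_sub_one]; exact dvd_mul_left _ _
  rw [factorsOf, Multiset.mem_add, Multiset.mem_bind] at hP
  rcases hP with ⟨o, -, ho⟩ | h
  · rcases o with _ | ⟨d, hd⟩
    · exact (Multiset.eq_of_mem_replicate ho) ▸ hX
    · obtain rfl := Multiset.mem_singleton.mp ho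
      obtain ⟨h1, h2, h3⟩ := (mem_orbitPolys _).mp hd
      exact ⟨h1, h2, h3.trans (by rw [← cyclotomic_prime_mul_X_sub_one]; exact dvd_mul_right _ _)⟩
  · exact (Multiset.eq_of_mem_replicate h) ▸ hX

omit [Fintype F] in
theorem count_factorsOf [DecidableEq F[X]] (hrF : (r : F) ≠ 0) {i n : ℕ}
    [DecidableEq (Option (orbitPolys F r))]
    (m : Multiset (Option (orbitPolys F r))) (d : orbitPolys F r) :
    (factorsOf F r i n m).count (d : F[X]) = m.count (some d) := by
  have hd1 : (d : F[X]) ≠ X - 1 := by
    intro h
    have h1 := ((mem_orbitPolys _).mp d.2).2.2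
    rw [h, ← C_1, dvd_iff_isRoot, IsRoot.def, eval_one_cyclotomic_prime] at h1
    exact hrF h1
  rw [factorsOf, Multiset.count_add, Multiset.count_replicate, if_neg (Ne.symm hd1), add_zero]
  induction m using Multiset.induction_on with
  | empty => simp
  | cons o m ih =>
    rw [Multiset.cons_bind, Multiset.count_add, ih, Multiset.count_cons]
    rcases o with _ | e
    · simp [Multiset.count_replicate, Ne.symm hd1]
    · by_cases h : d = e
      · subst h; simp [add_comm]
      · simp [h, Subtype.coe_injective.ne h]

theorem natDegree_factorsOf (hrF : (r : F) ≠ 0) {n : ℕ}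
    (m : Multiset (Option (orbitPolys F r))) :
    ((factorsOf F r (orderOf (Fintype.card F : ZMod r)) n m).map natDegree).sum =
      Multiset.card m * orderOf (Fintype.card F : ZMod r) +
        n % orderOf (Fintype.card F : ZMod r) := by
  have hX : (X - 1 : F[X]).natDegree = 1 := by rw [← C_1]; exact natDegree_X_sub_C 1
  rw [factorsOf, Multiset.map_add, Multiset.sum_add, Multiset.map_replicate,
    Multiset.sum_replicate, hX, smul_eq_mul, mul_one]
  congr 1
  induction m using Multiset.induction_on with
  | empty => simp
  | cons o m ih =>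
    rw [Multiset.cons_bind, Multiset.map_add, Multiset.sum_add, ih, Multiset.card_cons]
    rcases o with _ | e
    · simp only [Option.elim_none, Multiset.map_replicate, Multiset.sum_replicate, hX, smul_eq_mul]
      ring
    · simp only [Option.elim_some, Multiset.map_singleton, Multiset.sum_singleton,
        natDegree_of_dvd_cyclotomic hrF ((mem_orbitPolys _).mp e.2).1
          ((mem_orbitPolys _).mp e.2).2.2]
      ring

/-- The classes of elements with `r`-th power one correspond to orbit multiplicities. -/
theorem card_classes_pow_eq_one (p : ℕ) [Fact p.Prime] [CharP F p] (hrp : r ≠ p) (n : ℕ) :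
    Nat.card {c : ConjClasses (GL (Fin n) F) // ∃ g, ConjClasses.mk g = c ∧ g ^ r = 1} =
      Nat.card (Sym (Option (orbitPolys F r)) (n / orderOf (Fintype.card F : ZMod r))) := by
  classical
  have hrF : (r : F) ≠ 0 := fun h => hrp ((Nat.prime_dvd_prime_iff_eq (Fact.out : p.Prime)
    hr.out).mp ((CharP.cast_eq_zero_iff F p r).mp h)).symm
  set i := orderOf (Fintype.card F : ZMod r)
  have hipos : 0 < i := orderOf_card_pos hrF
  have hcop : ∀ g : GL (Fin n) F, g ^ r = 1 → (orderOf g).Coprime p := fun g hg =>
    Nat.Coprime.coprime_dvd_left (orderOf_dvd_of_pow_eq_one hg)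
      ((Nat.coprime_primes hr.out Fact.out).mpr hrp)
  have hnf : ∀ s : Sym (Option (orbitPolys F r)) (n / i),
      normalizedFactors (factorsOf F r i n s).prod = factorsOf F r i n s := by
    intro s
    rw [normalizedFactors_prod_eq _ (fun P hP => (factorsOf_spec hP).1)]
    conv_rhs => rw [← Multiset.map_id (factorsOf F r i n s)]
    exact Multiset.map_congr rfl fun P hP => (factorsOf_spec hP).2.1.normalize_eq_self
  have hmon : ∀ s : Sym (Option (orbitPolys F r)) (n / i), (factorsOf F r i n s).prod.Monic := by
    intro s
    conv => arg 1; rw [← Multiset.map_id (factorsOf F r i n s)]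
    exact monic_multiset_prod_of_monic _ _ fun P hP => (factorsOf_spec hP).2.1
  have hex : ∀ s : Sym (Option (orbitPolys F r)) (n / i), ∃ g : GL (Fin n) F,
      g ^ r = 1 ∧ (g : Matrix (Fin n) (Fin n) F).charpoly = (factorsOf F r i n s).prod := by
    intro s
    have hdeg : (factorsOf F r i n s).prod.natDegree = n := by
      rw [natDegree_multiset_prod_of_monic _ fun P hP => (factorsOf_spec hP).2.1,
        natDegree_factorsOf hrF, show Multiset.card (s : Multiset (Option (orbitPolys F r))) =
          n / i from s.2]
      exact Nat.div_add_mod' n i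
    obtain ⟨M, hM⟩ := exists_matrix_charpoly_eq (hmon s) hdeg
    have hu : IsUnit M := by
      rw [Matrix.isUnit_iff_isUnit_det, isUnit_iff_ne_zero, det_eq_coeff, hM,
        coeff_zero_multiset_prod]
      refine mul_ne_zero (pow_ne_zero _ (neg_ne_zero.mpr one_ne_zero)) (Multiset.prod_ne_zero ?_)
      rw [Multiset.mem_map]
      rintro ⟨P, hP, h0⟩
      obtain ⟨Q, hQ⟩ := (factorsOf_spec hP).2.2
      have h1 := congrArg (fun T => coeff T 0) hQ
      simp [mul_coeff_zero, h0, hr.out.ne_zero.symm] at h1
    obtain ⟨N, hN, hchar⟩ := exists_pow_card_pow_coprime p hu.unit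
    have hch : ((hu.unit ^ Fintype.card F ^ N : GL (Fin n) F) : Matrix (Fin n) (Fin n) F).charpoly =
        (factorsOf F r i n s).prod := hchar.trans ((congrArg Matrix.charpoly hu.unit_spec).trans hM)
    refine ⟨_, Units.ext (Matrix.toLin'.injective ?_), hch⟩
    have h := aeval_eq_zero_of_forall_dvd (gl_isSemisimple p hN) (Q := X ^ r - 1) (fun P hP hPm hd => by
      rw [Matrix.charpoly_toLin', hch] at hd
      obtain ⟨Q, hQ, hPQ⟩ := exists_mem_normalizedFactors_of_dvd (hmon s).ne_zero hP hd
      rw [hnf] at hQ
      exact hPQ.dvd.trans (factorsOf_spec hQ).2.2)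
    rw [Units.val_pow_eq_pow_val, ← toLin'_pow, Units.val_one, Matrix.toLin'_one]
    simpa [sub_eq_zero, Module.End.one_eq_id] using h
  choose G hG1 hG2 using hex
  symm
  refine Nat.card_eq_of_bijective (fun s => ⟨ConjClasses.mk (G s), G s, rfl, hG1 s⟩) ⟨?_, ?_⟩
  · intro s t hst
    have hst' := congrArg Subtype.val hst
    obtain ⟨u, hu⟩ := isConj_iff.mp (ConjClasses.mk_eq_mk_iff_isConj.mp hst')
    have heq : (factorsOf F r i n s).prod = (factorsOf F r i n t).prod := by
      rw [← hG2, ← hG2, ← hu, Units.val_mul, Units.val_mul, Matrix.coe_units_inv,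
        Matrix.charpoly_units_conj]
    have heq' : factorsOf F r i n s = factorsOf F r i n t := by
      rw [← hnf s, ← hnf t, heq]
    have hsome : ∀ d, Multiset.count (some d) (s : Multiset (Option (orbitPolys F r))) =
        Multiset.count (some d) (t : Multiset (Option (orbitPolys F r))) := fun d => by
      rw [← count_factorsOf (i := i) (n := n) hrF, heq', count_factorsOf hrF]
    refine Sym.coe_injective (Multiset.ext.mpr ?_)
    rintro (_ | d)
    · have h1 : ∀ w : Sym (Option (orbitPolys F r)) (n / i),
          Multiset.count none (w : Multiset (Option (orbitPolys F r))) +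
            ∑ d : orbitPolys F r, Multiset.count (some d) (w : Multiset (Option (orbitPolys F r))) =
            n / i := fun w => by
        rw [← Fintype.sum_option (fun o => Multiset.count o
          (w : Multiset (Option (orbitPolys F r)))), Multiset.sum_count_eq_card fun o _ => Finset.mem_univ o]
        exact w.2
      have h2 := h1 s
      have h3 := h1 t
      simp only [hsome] at h2
      omega
    · exact hsome d
  · rintro ⟨c, g, rfl, hg⟩
    set χ := (g : Matrix (Fin n) (Fin n) F).charpoly with hχ
    have hχm : χ.Monic := Matrix.charpoly_monic _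
    have hpow : (Matrix.toLin' (g : Matrix (Fin n) (Fin n) F) : Module.End F (Fin n → F)) ^ r = 1 := by
      rw [toLin'_pow, ← Units.val_pow_eq_pow_val, hg, Units.val_one, Matrix.toLin'_one]; rfl
    set μ := normalizedFactors χ with hμ
    have hμspec : ∀ P ∈ μ, P = X - 1 ∨ P ∈ orbitPolys F r := by
      intro P hP
      have hirr := irreducible_of_normalized_factor P hP
      have hPm : P.Monic := by
        rw [← normalize_normalized_factor P hP]
        exact Polynomial.monic_normalize hirr.ne_zero
      obtain ⟨v, hv, hv0⟩ := exists_apply_eq_zero_of_dvd_charpoly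
        (isSemisimple_of_pow_eq_one hrF hpow) hirr hPm
        (by rw [Matrix.charpoly_toLin', ← hχ]; exact dvd_of_mem_normalizedFactors hP)
      have hdvd : P ∣ X ^ r - 1 := by
        by_contra hnd
        obtain ⟨a, b, hab⟩ := hirr.coprime_iff_not_dvd.mpr hnd
        have := congrArg (fun T => aeval (Matrix.toLin' (g : Matrix (Fin n) (Fin n) F) :
          Module.End F (Fin n → F)) T v) hab
        simp [hv0, hpow] at this
        exact hv this.symm
      rw [← cyclotomic_prime_mul_X_sub_one] at hdvd
      rcases hirr.prime.dvd_or_dvd hdvd with h | h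
      · exact Or.inr ((mem_orbitPolys P).mpr ⟨hirr, hPm, h⟩)
      · left
        rw [← C_1] at h ⊢
        exact eq_of_monic_of_associated hPm (monic_X_sub_C 1)
          (hirr.associated_of_dvd (irreducible_X_sub_C 1) h)
    let D : Multiset (orbitPolys F r) :=
      ((μ.filter (fun P => P ∈ orbitPolys F r)).attach).map
        (fun x => ⟨x.1, (Multiset.mem_filter.mp x.2).2⟩)
    have hD : D.map Subtype.val = μ.filter (fun P => P ∈ orbitPolys F r) := by
      simp only [D, Multiset.map_map, Function.comp_def]
      exact Multiset.attach_map_val _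
    have hX : μ.filter (fun P => ¬ P ∈ orbitPolys F r) =
        Multiset.replicate (Multiset.card (μ.filter (fun P => ¬ P ∈ orbitPolys F r))) (X - 1) := by
      refine Multiset.eq_replicate_card.mpr fun P hP => ?_
      rw [Multiset.mem_filter] at hP
      exact (hμspec P hP.1).resolve_right hP.2
    set j := Multiset.card (μ.filter (fun P => ¬ P ∈ orbitPolys F r)) with hj
    have hprod : μ.prod = χ := by
      rw [hμ, prod_normalizedFactors_eq hχm.ne_zero, hχm.normalize_eq_self]
    have hsplit : μ = D.map Subtype.val + Multiset.replicate j (X - 1) := by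
      rw [hD, ← hX]; exact (Multiset.filter_add_not _ _).symm
    have hdeg : Multiset.card D * i + j = n := by
      have h1 := congrArg natDegree hprod
      rw [natDegree_multiset_prod μ (fun h => not_irreducible_zero
          (irreducible_of_normalized_factor 0 h))] at h1
      rw [hsplit, show χ.natDegree = n from
          (Matrix.charpoly_natDegree_eq_dim _).trans (Fintype.card_fin n), Multiset.map_add, Multiset.sum_add, Multiset.map_replicate,
        Multiset.sum_replicate, Multiset.map_map] at h1
      rw [Multiset.map_congr rfl (fun d _ => show (natDegree ∘ Subtype.val) d = i from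
          natDegree_of_dvd_cyclotomic hrF ((mem_orbitPolys _).mp d.2).1
            ((mem_orbitPolys _).mp d.2).2.2), Multiset.map_const', Multiset.sum_replicate,
        show (X - 1 : F[X]).natDegree = 1 by rw [← C_1]; exact natDegree_X_sub_C 1,
        smul_eq_mul, smul_eq_mul, mul_one] at h1
      exact h1
    have hle : Multiset.card D ≤ n / i :=
      (Nat.le_div_iff_mul_le hipos).mpr (by omega)
    let s : Sym (Option (orbitPolys F r)) (n / i) :=
      ⟨D.map some + Multiset.replicate (n / i - Multiset.card D) none, by simp; omega⟩
    refine ⟨s, Subtype.ext (ConjClasses.mk_eq_mk_iff_isConj.mpr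
      (gl_isConj_of_charpoly_eq p (hcop _ (hG1 s)) (hcop g hg) ?_))⟩
    rw [hG2, ← hχ, ← hprod]
    congr 1
    show factorsOf F r i n (D.map some + Multiset.replicate (n / i - Multiset.card D) none) = μ
    rw [hsplit, factorsOf, Multiset.add_bind, Multiset.bind_map, add_assoc]
    congr 1
    · simp only [Option.elim_some]
      exact Multiset.bind_singleton _ _
    · have hrep : ∀ k : ℕ, (Multiset.replicate k (none : Option (orbitPolys F r))).bind
          (fun o => o.elim (Multiset.replicate i (X - 1 : F[X])) (fun d => {(d : F[X])})) =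
          Multiset.replicate (k * i) (X - 1) := by
        intro k
        induction k with
        | zero => simp
        | succ k ih =>
          rw [Multiset.replicate_succ, Multiset.cons_bind, ih, Option.elim_none,
            ← Multiset.replicate_add, Nat.succ_mul, add_comm]
      rw [hrep, ← Multiset.replicate_add]
      congr 1
      have h1 := Nat.div_add_mod' n i
      have h2 := Nat.mul_le_mul_right i hle
      rw [Nat.sub_mul]
      omega

end CfsgLib.Classical.Semisimple
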